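import Groth.Agent.AlgSpc.FibreProd
import Groth.Agent.AlgSpc.LocP
import Groth.Agent.AlgSpc.UnivOpenField
import Groth.Agent.S9623
import Mathlib.Topology.Connected.TotallyDisconnected
import Mathlib.AlgebraicGeometry.PullbackCarrier

/-!
Connected components of algebraic spaces and field extensions.
-/

set_option autoImplicit false
set_option backward.isDefEq.respectTransparency false
universe u

open CategoryTheory Limits AlgebraicGeometry Topology
open AlgSp

namespace Groth.Agent.AlgSpConn

open Groth.Agent.AlgSpc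

variable {S : Scheme.{u}}

/-- A field as an object over `S`. -/
noncomputable abbrev ptObj {L : Type u} [Field L] (s : Spec (CommRingCat.of L) ⟶ S) : Over S := Over.mk s

theorem surjective_snd {P F G H : Sp S} {fst : P ⟶ F} {snd : P ⟶ G} {f : F ⟶ H} {g : G ⟶ H}
    (sq : IsPullback fst snd f g) (hf : Function.Surjective (Points.map f)) : Function.Surjective (Points.map snd) := by
  intro y
  obtain ⟨x, hx⟩ := hf (Points.map g y)
  obtain ⟨z, -, hz⟩ := exists_point_of_isPullback sq x y hx
  exact ⟨z, hz⟩

/-- Projections from fibre products over a field are open on points. -/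
theorem isOpenMap_snd {L : Type u} [Field L] {s : Spec (CommRingCat.of L) ⟶ S} {F G P : Sp S}
    (hF : IsAlgSpace F) (hG : IsAlgSpace G) {fst : P ⟶ F} {snd : P ⟶ G} {f : F ⟶ (yon S).obj (ptObj s)}
    {g : G ⟶ (yon S).obj (ptObj s)} (sq : IsPullback fst snd f g) : IsOpenMap (Points.map snd) := by
  obtain ⟨U, a, ha, has⟩ := hF.atlas
  obtain ⟨V, b, hb, hbs⟩ := hG.atlas
  have sqW := (IsPullback.of_hasPullback (pre (a ≫ f)) (pre (b ≫ g))).map (yon S)
  rw [map_pre, map_pre] at sqW
  have sqA := IsPullback.of_hasPullback a fst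
  let l := (sqA.paste_vert sq).lift ((yon S).map (pullback.fst (pre (a ≫ f)) (pre (b ≫ g))))
    ((yon S).map (pullback.snd (pre (a ≫ f)) (pre (b ≫ g))) ≫ b) (by rw [sqW.w, Category.assoc])
  have sqB : IsPullback l ((yon S).map (pullback.snd (pre (a ≫ f)) (pre (b ≫ g)))) (pullback.snd a fst ≫ snd) b :=
    IsPullback.of_right (h₁₂ := pullback.fst a fst) (v₁₃ := a ≫ f) (h₂₂ := g)
      (by rw [IsPullback.lift_fst]; exact sqW) ((sqA.paste_vert sq).lift_snd _ _ _) (sqA.paste_vert sq)
  let c := l ≫ pullback.snd a fst
  have hcs : RepWith @Surjective c :=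
    repWith_comp (repWith_of_isPullback sqB.flip hbs) (repWith_of_isPullback sqA has)
  refine isOpenMap_of_chart (a := c) (b := b) (h := pullback.snd (pre (a ≫ f)) (pre (b ≫ g))) hcs hb ?_ ?_
  · simp only [c, Category.assoc]; exact sqB.w
  · haveI : UniversallyOpen (pre (a ≫ f)).left := universallyOpen_to_field _
    haveI : UniversallyOpen (pullback.snd (pre (a ≫ f)) (pre (b ≫ g))).left :=
      MorphismProperty.of_isPullback ((IsPullback.of_hasPullback (pre (a ≫ f)) (pre (b ≫ g))).map (Over.forget S))
        (‹UniversallyOpen (pre (a ≫ f)).left› :)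
    exact (pullback.snd (pre (a ≫ f)) (pre (b ≫ g))).left.isOpenMap

theorem surjective_to_field {L : Type u} [Field L] {s : Spec (CommRingCat.of L) ⟶ S} {F : Sp S}
    [Nonempty (Points F)] (f : F ⟶ (yon S).obj (ptObj s)) : Function.Surjective (Points.map f) := by
  intro y
  obtain ⟨x⟩ := ‹Nonempty (Points F)›
  haveI : Subsingleton ↥(ptObj s).left := inferInstanceAs (Subsingleton (PrimeSpectrum L))
  exact ⟨x, (Points.schemeHomeo (ptObj s)).symm.injective (Subsingleton.elim _ _)⟩

theorem bijective_components {P G : Sp S} (snd : P ⟶ G) (ho : IsOpenMap (Points.map snd))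
    (h : ∀ y, IsConnected (Points.map snd ⁻¹' {y})) :
    Function.Bijective (Continuous.connectedComponentsMap (Points.continuous_map snd)) :=
  (ho.isQuotientMap (Points.continuous_map snd) fun y => (h y).nonempty).isCoinducing.connectedComponentsMap_bijective h

theorem connectedSpace_of_fibres {P G : Sp S} (snd : P ⟶ G) (ho : IsOpenMap (Points.map snd))
    (h : ∀ y, IsConnected (Points.map snd ⁻¹' {y})) [ConnectedSpace (Points G)] : ConnectedSpace (Points P) := by
  have hs : Function.Surjective (Points.map snd) := fun y => (h y).nonempty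
  obtain ⟨y⟩ := (inferInstance : Nonempty (Points G))
  obtain ⟨x, rfl⟩ := hs y
  refine connectedSpace_iff_connectedComponent.2 ⟨x, ?_⟩
  rw [← ((ho.isQuotientMap (Points.continuous_map snd) hs).isCoinducing).preimage_connectedComponent h x,
    PreconnectedSpace.connectedComponent_eq_univ, Set.preimage_univ]

/-- Fibres of a base change are images of fibre products. -/
theorem fibre_eq_range {P Q F G H : Sp S} {fst : P ⟶ F} {snd : P ⟶ G} {f : F ⟶ H} {g : G ⟶ H}
    (sq : IsPullback fst snd f g) (p : FieldPt G) {qf : Q ⟶ F} {qs : Q ⟶ (yon S).obj p.pt}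
    (sqQ : IsPullback qf qs f (p.toHom ≫ g)) :
    Set.range (Points.map (sq.lift qf (qs ≫ p.toHom) (by rw [Category.assoc]; exact sqQ.w))) =
      Points.map snd ⁻¹' {Points.mk p} := by
  set l := sq.lift qf (qs ≫ p.toHom) (by rw [Category.assoc]; exact sqQ.w)
  haveI : Subsingleton ↥p.pt.left := inferInstanceAs (Subsingleton (PrimeSpectrum p.K))
  have hp : ∀ z, Points.map p.toHom z = Points.mk p := fun z => by
    rw [← Points.ofScheme_toScheme p.pt z, Points.map_ofPt, Category.id_comp,
      Subsingleton.elim (Points.toScheme p.pt z) (IsLocalRing.closedPoint p.K), Points.ofPt_toHom]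
  have sql : IsPullback l qs snd p.toHom :=
    IsPullback.of_right (h₁₂ := fst) (v₁₃ := f) (h₂₂ := g) (by rw [IsPullback.lift_fst]; exact sqQ)
      (sq.lift_snd _ _ _) sq
  ext z
  constructor
  · rintro ⟨w, rfl⟩
    rw [Set.mem_preimage, Set.mem_singleton_iff, ← Points.map_comp, sql.w, Points.map_comp, hp]
  · intro hz
    obtain ⟨w, hw, -⟩ := exists_point_of_isPullback sql z (Points.ofScheme p.pt (IsLocalRing.closedPoint p.K))
      (by rw [hp]; exact hz)
    exact ⟨w, hw⟩

theorem isConnected_fibre {P Q F G H : Sp S} {fst : P ⟶ F} {snd : P ⟶ G} {f : F ⟶ H} {g : G ⟶ H}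
    (sq : IsPullback fst snd f g) (p : FieldPt G) {qf : Q ⟶ F} {qs : Q ⟶ (yon S).obj p.pt}
    (sqQ : IsPullback qf qs f (p.toHom ≫ g)) [ConnectedSpace (Points Q)] :
    IsConnected (Points.map snd ⁻¹' {Points.mk p}) :=
  fibre_eq_range sq p sqQ ▸ isConnected_range (Points.continuous_map _)

variable {L M : Type u} [Field L] [Field M] [Algebra L M] {s : Spec (CommRingCat.of L) ⟶ S}

/-- A field extension as a morphism over `S`. -/
noncomputable abbrev extHom (L M : Type u) [Field L] [Field M] [Algebra L M] (s : Spec (CommRingCat.of L) ⟶ S) :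
    ptObj (Spec.map (CommRingCat.ofHom (algebraMap L M)) ≫ s) ⟶ ptObj s :=
  Over.homMk (Spec.map (CommRingCat.ofHom (algebraMap L M))) rfl

/-- Base change along an extension of a separably closed field has connected fibres and is open. -/
theorem open_connected_fibres [IsSepClosed L] {P F : Sp S} (hF : IsAlgSpace F)
    {fst : P ⟶ (yon S).obj (ptObj (Spec.map (CommRingCat.ofHom (algebraMap L M)) ≫ s))} {snd : P ⟶ F}
    {f : F ⟶ (yon S).obj (ptObj s)} (sq : IsPullback fst snd ((yon S).map (extHom L M s)) f) :
    IsOpenMap (Points.map snd) ∧ ∀ y, IsConnected (Points.map snd ⁻¹' {y}) := by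
  refine ⟨isOpenMap_snd (IsAlgSpace.yon_obj _) hF sq, fun y => ?_⟩
  induction y using Points.ind with
  | h p =>
  let r : p.pt ⟶ ptObj s := pre (p.toHom ≫ f)
  have sqQ := (IsPullback.of_hasPullback (extHom L M s) r).map (yon S)
  rw [show (yon S).map r = p.toHom ≫ f from map_pre _] at sqQ
  haveI : ConnectedSpace ↥(pullback (extHom L M s) r).left := by
    let ψ : CommRingCat.of L ⟶ CommRingCat.of p.K := Spec.preimage r.left
    letI : Algebra L p.K := ψ.hom.toAlgebra
    haveI : ConnectedSpace (PrimeSpectrum (TensorProduct L M p.K)) := S9623.result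
    haveI : ConnectedSpace ↥(Spec (CommRingCat.of (TensorProduct L M p.K))) :=
      ‹ConnectedSpace (PrimeSpectrum (TensorProduct L M p.K))›
    haveI : ConnectedSpace ↥(pullback (Spec.map (CommRingCat.ofHom (algebraMap L M))) r.left) := by
      have e : r.left = Spec.map (CommRingCat.ofHom (algebraMap L p.K)) := (Spec.map_preimage r.left).symm
      exact e ▸ Function.Surjective.connectedSpace
        (f := (pullbackSpecIso L M p.K).inv) (pullbackSpecIso L M p.K).inv.surjective (Scheme.Hom.continuous _)
    have sq' := (IsPullback.of_hasPullback (extHom L M s) r).map (Over.forget S)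
    haveI : ConnectedSpace ↥(pullback ((Over.forget S).map (extHom L M s)) ((Over.forget S).map r)) :=
      ‹ConnectedSpace ↥(pullback (Spec.map (CommRingCat.ofHom (algebraMap L M))) r.left)›
    exact Function.Surjective.connectedSpace (f := sq'.isoPullback.inv) sq'.isoPullback.inv.surjective (Scheme.Hom.continuous _)
  haveI : ConnectedSpace (Points ((yon S).obj (pullback (extHom L M s) r))) :=
    (Points.schemeHomeo _).surjective.connectedSpace (Points.schemeHomeo _).continuous
  exact isConnected_fibre sq p sqQ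

end Groth.Agent.AlgSpConn
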