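import Groth.Agent.AlgSpConn.Basic

/-!
Connectedness of base changes of algebraic spaces over a field.
-/

set_option autoImplicit false
set_option backward.isDefEq.respectTransparency false
universe u

open CategoryTheory Limits AlgebraicGeometry Topology
open AlgSp

namespace Groth.Agent.AlgSpConn

open Groth.Agent.AlgSpc

variable {k : Type u} [Field k]

/-- An extension field as an object over `Spec k`. -/
noncomputable abbrev fld (k K : Type u) [Field k] [Field K] [Algebra k K] : Over (Spec (CommRingCat.of k)) :=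
  ptObj (Spec.map (CommRingCat.ofHom (algebraMap k K)))

theorem isTerminal_o : Nonempty (IsTerminal ((yon (Spec (CommRingCat.of k))).obj (ptObj (𝟙 _)))) :=
  ⟨IsTerminal.isTerminalObj (yon _) _ Over.mkIdTerminal⟩

theorem isPullback_prod (X Y : Sp (Spec (CommRingCat.of k))) :
    ∃ (f : X ⟶ (yon _).obj (ptObj (𝟙 _))) (g : Y ⟶ (yon _).obj (ptObj (𝟙 _))),
      IsPullback (Limits.prod.fst : X ⨯ Y ⟶ X) Limits.prod.snd f g := by
  obtain ⟨ht⟩ := isTerminal_o (k := k)
  refine ⟨ht.from X, ht.from Y, IsPullback.of_isLimit' ⟨ht.hom_ext _ _⟩ (PullbackCone.IsLimit.mk _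
    (fun s => prod.lift s.fst s.snd) (fun s => prod.lift_fst _ _) (fun s => prod.lift_snd _ _)
    (fun s m h₁ h₂ => Limits.prod.hom_ext (h₁.trans (prod.lift_fst _ _).symm) (h₂.trans (prod.lift_snd _ _).symm)))⟩

theorem isAlgSpace_prod {X Y : Sp (Spec (CommRingCat.of k))} (hX : IsAlgSpace X) (hY : IsAlgSpace Y) :
    IsAlgSpace (X ⨯ Y) := by
  obtain ⟨f, g, sq⟩ := isPullback_prod X Y
  exact isAlgSpace_of_isPullback hX (IsAlgSpace.yon_obj _) hY sq

theorem isPullback_prod_map {C : Type*} [Category C] [HasBinaryProducts C] (X : C) {A B : C} (ρ : A ⟶ B) :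
    IsPullback (Limits.prod.snd : X ⨯ A ⟶ A) (prod.map (𝟙 X) ρ) ρ (Limits.prod.snd : X ⨯ B ⟶ B) := by
  refine IsPullback.of_isLimit' ⟨(prod.map_snd _ _).symm⟩ (PullbackCone.IsLimit.mk _
    (fun s => prod.lift (s.snd ≫ Limits.prod.fst) s.fst) (fun s => prod.lift_snd _ _)
    (fun s => ?_) (fun s m h₁ h₂ => ?_))
  · apply Limits.prod.hom_ext
    · rw [Category.assoc, prod.map_fst, Category.comp_id, prod.lift_fst]
    · rw [Category.assoc, prod.map_snd, prod.lift_snd_assoc]; exact s.condition
  · refine Limits.prod.hom_ext ?_ (h₁.trans (prod.lift_snd _ _).symm)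
    rw [prod.lift_fst, ← h₂, Category.assoc, prod.map_fst, Category.comp_id]

theorem fld_eq (K M : Type u) [Field K] [Field M] [Algebra k K] [Algebra k M] [Algebra K M] [IsScalarTower k K M] :
    ptObj (Spec.map (CommRingCat.ofHom (algebraMap K M)) ≫ Spec.map (CommRingCat.ofHom (algebraMap k K))) = fld k M := by
  refine congrArg ptObj ?_
  rw [← Spec.map_comp, ← CommRingCat.ofHom_comp, ← IsScalarTower.algebraMap_eq k K M]

variable {X : Sp (Spec (CommRingCat.of k))}

theorem connected_bc_of_sepClosed (hX : IsAlgSpace X) (K M : Type u) [Field K] [Field M] [IsSepClosed K]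
    [Algebra k K] [Algebra k M] [Algebra K M] [IsScalarTower k K M]
    [ConnectedSpace (Points (X ⨯ (yon _).obj (fld k K)))] : ConnectedSpace (Points (X ⨯ (yon _).obj (fld k M))) := by
  have sq := isPullback_prod_map X ((yon _).map (extHom K M (Spec.map (CommRingCat.ofHom (algebraMap k K)))))
  obtain ⟨ho, hf⟩ := open_connected_fibres (isAlgSpace_prod hX (IsAlgSpace.yon_obj _)) sq
  have := connectedSpace_of_fibres _ ho hf
  rwa [fld_eq] at this

theorem connected_of_ext (K M : Type u) [Field K] [Field M] [Algebra k K] [Algebra k M] [Algebra K M]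
    [IsScalarTower k K M] [h : ConnectedSpace (Points (X ⨯ (yon _).obj (fld k M)))] :
    ConnectedSpace (Points (X ⨯ (yon _).obj (fld k K))) := by
  rw [← fld_eq K M] at h
  have sq := isPullback_prod_map X ((yon _).map (extHom K M (Spec.map (CommRingCat.ofHom (algebraMap k K)))))
  haveI : Nonempty (Points ((yon (Spec (CommRingCat.of k))).obj
      (ptObj (Spec.map (CommRingCat.ofHom (algebraMap K M)) ≫ Spec.map (CommRingCat.ofHom (algebraMap k K)))))) :=
    ⟨Points.ofScheme _ (IsLocalRing.closedPoint M)⟩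
  exact (surjective_snd sq (surjective_to_field _)).connectedSpace (Points.continuous_map _)

theorem connected_iff_self (X : Sp (Spec (CommRingCat.of k))) :
    ConnectedSpace (Points (X ⨯ (yon _).obj (fld k k))) ↔ ConnectedSpace (Points X) := by
  obtain ⟨ht⟩ := isTerminal_o (k := k)
  have e : fld k k = ptObj (𝟙 _) := congrArg ptObj (by
    rw [show CommRingCat.ofHom (algebraMap k k) = 𝟙 (CommRingCat.of k) from rfl, Spec.map_id])
  rw [e]
  haveI : IsIso (Limits.prod.fst : X ⨯ (yon _).obj (ptObj (𝟙 (Spec (CommRingCat.of k)))) ⟶ X) :=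
    ⟨prod.lift (𝟙 X) (ht.from X), Limits.prod.hom_ext (by simp) (ht.hom_ext _ _), prod.lift_fst _ _⟩
  constructor
  · intro _
    exact Function.Surjective.connectedSpace (f := Points.map (Limits.prod.fst : X ⨯ (yon (Spec (CommRingCat.of k))).obj (ptObj (𝟙 (Spec (CommRingCat.of k)))) ⟶ X))
      (fun y => ⟨Points.map (inv (Limits.prod.fst : X ⨯ (yon (Spec (CommRingCat.of k))).obj (ptObj (𝟙 (Spec (CommRingCat.of k)))) ⟶ X)) y, by rw [← Points.map_comp, IsIso.inv_hom_id, Points.map_id]⟩)
      (Points.continuous_map _)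
  · intro _
    exact Function.Surjective.connectedSpace (f := Points.map (inv (Limits.prod.fst : X ⨯ (yon (Spec (CommRingCat.of k))).obj (ptObj (𝟙 (Spec (CommRingCat.of k)))) ⟶ X)))
      (fun y => ⟨Points.map (Limits.prod.fst : X ⨯ (yon (Spec (CommRingCat.of k))).obj (ptObj (𝟙 (Spec (CommRingCat.of k)))) ⟶ X) y, by rw [← Points.map_comp, IsIso.hom_inv_id, Points.map_id]⟩)
      (Points.continuous_map _)

theorem exists_compositum (K K' : Type u) [Field K] [Field K'] [Algebra k K] [Algebra k K'] :
    ∃ (M : Type u) (_ : Field M) (_ : Algebra k M) (_ : Algebra K M) (_ : Algebra K' M),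
      IsScalarTower k K M ∧ IsScalarTower k K' M := by
  haveI : Nontrivial (TensorProduct k K K') := Algebra.TensorProduct.nontrivial_of_algebraMap_injective_of_flat_left k K K'
    (algebraMap k K').injective
  obtain ⟨m, hm⟩ := Ideal.exists_maximal (TensorProduct k K K')
  letI := Ideal.Quotient.field m
  let i₁ : K →ₐ[k] TensorProduct k K K' ⧸ m :=
    (Ideal.Quotient.mkₐ k m).comp Algebra.TensorProduct.includeLeft
  let i₂ : K' →ₐ[k] TensorProduct k K K' ⧸ m :=
    (Ideal.Quotient.mkₐ k m).comp Algebra.TensorProduct.includeRight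
  exact ⟨_, inferInstance, inferInstance, i₁.toRingHom.toAlgebra, i₂.toRingHom.toAlgebra,
    @IsScalarTower.of_algebraMap_eq k K _ _ _ _ _ i₁.toRingHom.toAlgebra _ (fun x => (i₁.commutes x).symm),
    @IsScalarTower.of_algebraMap_eq k K' _ _ _ _ _ i₂.toRingHom.toAlgebra _ (fun x => (i₂.commutes x).symm)⟩

/-- Connected after one separably closed extension gives geometrically connected. -/
theorem forall_connected_of_sepClosed (hX : IsAlgSpace X) (K : Type u) [Field K] [IsSepClosed K] [Algebra k K]
    [ConnectedSpace (Points (X ⨯ (yon _).obj (fld k K)))] (K' : Type u) [Field K'] [Algebra k K'] :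
    ConnectedSpace (Points (X ⨯ (yon _).obj (fld k K'))) := by
  obtain ⟨M, _, _, _, _, h₁, h₂⟩ := exists_compositum (k := k) K K'
  haveI := connected_bc_of_sepClosed hX K M
  exact connected_of_ext K' M

end Groth.Agent.AlgSpConn
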